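import Cfsg.Agent.H985.Trans
import Cfsg.Agent.Tits.Labels

/-!
# The projective plane of a (B,N)-pair of type `A_2`
-/

set_option autoImplicit false

namespace Cfsg.Agent.H156.Tits

open Cfsg Cfsg.Agent.H985 Cfsg.Agent.H985.Pl Configuration Configuration.ProjectivePlane

/-! ## the plane of two subgroups -/

section Abs

variable {G : Type*} [Group G]

/-- points: cosets of `X` -/
def Pt (X _Y : Subgroup G) : Type _ := G ⧸ X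

/-- lines: cosets of `Y` -/
def Ln (_X Y : Subgroup G) : Type _ := G ⧸ Y

variable {X Y : Subgroup G}

/-- the point `g X` -/
def pt (X Y : Subgroup G) (g : G) : Pt X Y := (QuotientGroup.mk g : G ⧸ X)

/-- the line `g Y` -/
def ln (X Y : Subgroup G) (g : G) : Ln X Y := (QuotientGroup.mk g : G ⧸ Y)

instance : MulAction G (Pt X Y) := inferInstanceAs (MulAction G (G ⧸ X))

instance : MulAction G (Ln X Y) := inferInstanceAs (MulAction G (G ⧸ Y))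

instance [Finite G] : Finite (Pt X Y) := inferInstanceAs (Finite (G ⧸ X))

instance [Finite G] : Finite (Ln X Y) := inferInstanceAs (Finite (G ⧸ Y))

theorem smul_pt (g h : G) : g • pt X Y h = pt X Y (g * h) := rfl

theorem smul_ln (g h : G) : g • ln X Y h = ln X Y (g * h) := rfl

theorem exists_pt (p : Pt X Y) : ∃ g, pt X Y g = p := QuotientGroup.mk_surjective (s := X) p

theorem exists_ln (l : Ln X Y) : ∃ g, ln X Y g = l := QuotientGroup.mk_surjective (s := Y) l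

theorem pt_eq {g h : G} : pt X Y g = pt X Y h ↔ g⁻¹ * h ∈ X := QuotientGroup.eq (s := X)

theorem ln_eq {g h : G} : ln X Y g = ln X Y h ↔ g⁻¹ * h ∈ Y := QuotientGroup.eq (s := Y)

instance : Membership (Pt X Y) (Ln X Y) where
  mem l p := ∃ g : G, pt X Y g = p ∧ ln X Y g = l

theorem mem_iff {p : Pt X Y} {l : Ln X Y} : p ∈ l ↔ ∃ g : G, pt X Y g = p ∧ ln X Y g = l := Iff.rfl

theorem pt_mem (g : G) : pt X Y g ∈ ln X Y g := ⟨g, rfl, rfl⟩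

instance : Act G (Pt X Y) (Ln X Y) := ⟨by
  rintro g _ _ ⟨h, rfl, rfl⟩
  exact pt_mem (g * h)⟩

/-- the hypotheses -/
structure PHyp (X Y : Subgroup G) : Prop where
  xyx : ∀ g : G, ∃ x ∈ X, ∃ y ∈ Y, ∃ x' ∈ X, g = x * y * x'
  yxy : ∀ g : G, ∃ y ∈ Y, ∃ x ∈ X, ∃ y' ∈ Y, g = y * x * y'
  inter : ∀ x ∈ X, ∀ y ∈ Y, ∀ x' ∈ X, ∀ y' ∈ Y, x * y = y' * x' → y ∈ X ∨ x ∈ Y
  thickX : ∃ a ∈ X, ∃ b ∈ X, a ∉ Y ∧ b ∉ Y ∧ a⁻¹ * b ∉ Y
  thickY : ∃ a ∈ Y, ∃ b ∈ Y, a ∉ X ∧ b ∉ X ∧ a⁻¹ * b ∉ X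
  two : ∀ y ∈ Y, ∀ y' ∈ Y, y ∉ X → y' ∉ X → ∃ b ∈ X, ∃ b' ∈ X, y' = b * y * b'

theorem PHyp.eq_or_eq (h : PHyp X Y) {p₁ p₂ : Pt X Y} {l₁ l₂ : Ln X Y} (h1 : p₁ ∈ l₁) (h2 : p₂ ∈ l₁)
    (h3 : p₁ ∈ l₂) (h4 : p₂ ∈ l₂) : p₁ = p₂ ∨ l₁ = l₂ := by
  obtain ⟨a, ha, ha'⟩ := h1
  obtain ⟨b, hb, hb'⟩ := h2
  obtain ⟨c, hc, hc'⟩ := h3
  obtain ⟨d, hd, hd'⟩ := h4
  rcases h.inter (a⁻¹ * c) (pt_eq.1 (ha.trans hc.symm)) (c⁻¹ * d) (ln_eq.1 (hc'.trans hd'.symm))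
    (b⁻¹ * d) (pt_eq.1 (hb.trans hd.symm)) (a⁻¹ * b) (ln_eq.1 (ha'.trans hb'.symm)) (by group) with h5 | h5
  · left
    rw [← hc, ← hd]
    exact pt_eq.2 h5
  · right
    rw [← ha', ← hc']
    exact ln_eq.2 h5

theorem PHyp.exists_line (h : PHyp X Y) (p q : Pt X Y) : ∃ l : Ln X Y, p ∈ l ∧ q ∈ l := by
  obtain ⟨a, rfl⟩ := exists_pt p
  obtain ⟨b, rfl⟩ := exists_pt q
  obtain ⟨x, hx, y, hy, x', hx', he⟩ := h.xyx (a⁻¹ * b)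
  refine ⟨ln X Y (a * x), ⟨a * x, ?_, rfl⟩, ⟨b * x'⁻¹, ?_, ?_⟩⟩
  · rw [pt_eq]
    have h1 : (a * x)⁻¹ * a = x⁻¹ := by group
    rw [h1]
    exact inv_mem hx
  · rw [pt_eq]
    have h1 : (b * x'⁻¹)⁻¹ * b = x' := by group
    rw [h1]
    exact hx'
  · rw [ln_eq]
    have h1 : (b * x'⁻¹)⁻¹ * (a * x) = x' * (a⁻¹ * b)⁻¹ * x := by group
    have h2 : x' * (x * y * x')⁻¹ * x = y⁻¹ := by group
    rw [h1, he, h2]
    exact inv_mem hy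

theorem PHyp.exists_point (h : PHyp X Y) (l m : Ln X Y) : ∃ p : Pt X Y, p ∈ l ∧ p ∈ m := by
  obtain ⟨a, rfl⟩ := exists_ln l
  obtain ⟨b, rfl⟩ := exists_ln m
  obtain ⟨x, hx, y, hy, x', hx', he⟩ := h.yxy (a⁻¹ * b)
  refine ⟨pt X Y (a * x), ⟨a * x, rfl, ?_⟩, ⟨b * x'⁻¹, ?_, ?_⟩⟩
  · rw [ln_eq]
    have h1 : (a * x)⁻¹ * a = x⁻¹ := by group
    rw [h1]
    exact inv_mem hx
  · rw [pt_eq]
    have h1 : (b * x'⁻¹)⁻¹ * (a * x) = x' * (a⁻¹ * b)⁻¹ * x := by group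
    have h2 : x' * (x * y * x')⁻¹ * x = y⁻¹ := by group
    rw [h1, he, h2]
    exact inv_mem hy
  · rw [ln_eq]
    have h1 : (b * x'⁻¹)⁻¹ * b = x' := by group
    rw [h1]
    exact hx'

theorem PHyp.config (h : PHyp X Y) : ∃ (p₁ p₂ p₃ : Pt X Y) (l₁ l₂ l₃ : Ln X Y),
    p₁ ∉ l₂ ∧ p₁ ∉ l₃ ∧ p₂ ∉ l₁ ∧ p₂ ∈ l₂ ∧ p₂ ∈ l₃ ∧ p₃ ∉ l₁ ∧ p₃ ∈ l₂ ∧ p₃ ∉ l₃ := by
  obtain ⟨a, ha, b, hb, haY, hbY, hab⟩ := h.thickX
  obtain ⟨c, hc, d, hd, hcX, hdX, hcd⟩ := h.thickY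
  have e1 : pt X Y a = pt X Y 1 := by rw [pt_eq, mul_one]; exact inv_mem ha
  have e2 : pt X Y b = pt X Y 1 := by rw [pt_eq, mul_one]; exact inv_mem hb
  have e3 : ln X Y c = ln X Y 1 := by rw [ln_eq, mul_one]; exact inv_mem hc
  have e4 : ln X Y d = ln X Y 1 := by rw [ln_eq, mul_one]; exact inv_mem hd
  have e5 : ln X Y (b * c) = ln X Y b := by
    rw [ln_eq]
    have h1 : (b * c)⁻¹ * b = c⁻¹ := by group
    rw [h1]
    exact inv_mem hc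
  have e6 : pt X Y (d * a) = pt X Y d := by
    rw [pt_eq]
    have h1 : (d * a)⁻¹ * d = a⁻¹ := by group
    rw [h1]
    exact inv_mem ha
  -- incidences
  have m1 : pt X Y 1 ∈ ln X Y 1 := pt_mem 1
  have m2 : pt X Y 1 ∈ ln X Y a := e1 ▸ pt_mem a
  have m3 : pt X Y 1 ∈ ln X Y b := e2 ▸ pt_mem b
  have m4 : pt X Y c ∈ ln X Y 1 := e3 ▸ pt_mem c
  have m5 : pt X Y d ∈ ln X Y 1 := e4 ▸ pt_mem d
  have m6 : pt X Y (b * c) ∈ ln X Y b := e5 ▸ pt_mem (b * c)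
  have m7 : pt X Y d ∈ ln X Y (d * a) := e6 ▸ pt_mem (d * a)
  -- inequalities
  have n1 : pt X Y (b * c) ≠ pt X Y 1 := by
    rw [Ne, pt_eq, mul_one, Subgroup.inv_mem_iff]
    intro h1
    exact hcX ((Subgroup.mul_mem_cancel_left X hb).1 h1)
  have n2 : ln X Y 1 ≠ ln X Y b := by
    rw [Ne, ln_eq, inv_one, one_mul]
    exact hbY
  have n3 : ln X Y a ≠ ln X Y b := by rwa [Ne, ln_eq]
  have n4 : pt X Y 1 ≠ pt X Y d := by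
    rw [Ne, pt_eq, inv_one, one_mul]
    exact hdX
  have n5 : ln X Y (d * a) ≠ ln X Y 1 := by
    rw [Ne, ln_eq, mul_one, Subgroup.inv_mem_iff]
    intro h1
    exact haY ((Subgroup.mul_mem_cancel_left Y hd).1 h1)
  have n6 : pt X Y c ≠ pt X Y d := by rwa [Ne, pt_eq]
  have n7 : pt X Y 1 ≠ pt X Y c := by
    rw [Ne, pt_eq, inv_one, one_mul]
    exact hcX
  have n8 : ln X Y 1 ≠ ln X Y a := by
    rw [Ne, ln_eq, inv_one, one_mul]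
    exact haY
  refine ⟨pt X Y (b * c), pt X Y 1, pt X Y c, ln X Y (d * a), ln X Y 1, ln X Y a, ?_, ?_, ?_, m1, m2, ?_, m4, ?_⟩
  · intro h1
    rcases h.eq_or_eq h1 m1 m6 m3 with h2 | h2
    · exact n1 h2
    · exact n2 h2
  · intro h1
    rcases h.eq_or_eq h1 m2 m6 m3 with h2 | h2
    · exact n1 h2
    · exact n3 h2
  · intro h1
    rcases h.eq_or_eq h1 m7 m1 m5 with h2 | h2
    · exact n4 h2
    · exact n5 h2
  · intro h1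
    rcases h.eq_or_eq h1 m7 m4 m5 with h2 | h2
    · exact n6 h2
    · exact n5 h2
  · intro h1
    rcases h.eq_or_eq m1 m4 m2 h1 with h2 | h2
    · exact n7 h2
    · exact n8 h2

theorem PHyp.trans_pt (p q : Pt X Y) : ∃ g : G, g • p = q := by
  obtain ⟨a, rfl⟩ := exists_pt p
  obtain ⟨b, rfl⟩ := exists_pt q
  exact ⟨b * a⁻¹, by rw [smul_pt]; congr 1; group⟩

theorem PHyp.trans_ln (p q : Ln X Y) : ∃ g : G, g • p = q := by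
  obtain ⟨a, rfl⟩ := exists_ln p
  obtain ⟨b, rfl⟩ := exists_ln q
  exact ⟨b * a⁻¹, by rw [smul_ln]; congr 1; group⟩

/-- the projective plane -/
@[reducible] noncomputable def PHyp.plane (h : PHyp X Y) : ProjectivePlane (Pt X Y) (Ln X Y) where
  exists_point := fun l => by
    obtain ⟨p₁, p₂, p₃, l₁, l₂, l₃, h1, -⟩ := h.config
    obtain ⟨g, hg⟩ := PHyp.trans_ln l₂ l
    refine ⟨g • p₁, fun h2 => h1 ?_⟩
    rw [← hg] at h2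
    exact (mem_smul_iff g).1 h2
  exists_line := fun p => by
    obtain ⟨p₁, p₂, p₃, l₁, l₂, l₃, h1, -⟩ := h.config
    obtain ⟨g, hg⟩ := PHyp.trans_pt p₁ p
    refine ⟨g • l₂, fun h2 => h1 ?_⟩
    rw [← hg] at h2
    exact (mem_smul_iff g).1 h2
  eq_or_eq := h.eq_or_eq
  mkPoint := fun {l m} _ => (h.exists_point l m).choose
  mkPoint_ax := fun {l m} _ => (h.exists_point l m).choose_spec
  mkLine := fun {p q} _ => (h.exists_line p q).choose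
  mkLine_ax := fun {p q} _ => (h.exists_line p q).choose_spec
  exists_config := h.config

theorem PHyp.t2 (h : PHyp X Y) : T2 G (Pt X Y) := by
  intro p₁ p₂ q₁ q₂ h1 h2
  obtain ⟨a, rfl⟩ := exists_pt p₁
  obtain ⟨b, rfl⟩ := exists_pt p₂
  obtain ⟨a', rfl⟩ := exists_pt q₁
  obtain ⟨b', rfl⟩ := exists_pt q₂
  rw [Ne, pt_eq] at h1 h2
  obtain ⟨x, hx, y, hy, x', hx', he⟩ := h.xyx (a⁻¹ * b)
  obtain ⟨u, hu, v, hv, u', hu', he'⟩ := h.xyx (a'⁻¹ * b')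
  rw [he] at h1
  rw [he'] at h2
  obtain ⟨β, hβ, β', hβ', hv2⟩ := h.two y hy v hv (fun h3 => h1 (mul_mem (mul_mem hx h3) hx'))
    (fun h3 => h2 (mul_mem (mul_mem hu h3) hu'))
  refine ⟨a' * u * β * x⁻¹ * a⁻¹, ?_, ?_⟩
  · rw [smul_pt, pt_eq]
    have h3 : (a' * u * β * x⁻¹ * a⁻¹ * a)⁻¹ * a' = x * β⁻¹ * u⁻¹ := by group
    rw [h3]
    exact mul_mem (mul_mem hx (inv_mem hβ)) (inv_mem hu)
  · rw [smul_pt, pt_eq]
    have h3 : (a' * u * β * x⁻¹ * a⁻¹ * b)⁻¹ * b' = (a⁻¹ * b)⁻¹ * x * β⁻¹ * u⁻¹ * (a'⁻¹ * b') := by group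
    have h4 : (x * y * x')⁻¹ * x * β⁻¹ * u⁻¹ * (u * (β * y * β') * u') = x'⁻¹ * β' * u' := by group
    rw [h3, he, he', hv2, h4]
    exact mul_mem (mul_mem (inv_mem hx') hβ') hu'

end Abs

end Cfsg.Agent.H156.Tits
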