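import Cfsg.Agent.H156.Tits.PlanePSL
import Cfsg.Agent.H156.Tits.PlaneBN

/-!
# S3414, task 4755 [N3]: a finite (B,N)-pair of rank two with Weyl group of order 6

`n3`: the group has a normal subgroup isomorphic to `PSL_3(F)`.
-/

set_option autoImplicit false

namespace Cfsg.Agent.H156.Tits

open Cfsg Cfsg.Agent.H985 Cfsg.Agent.H985.Pl Configuration Configuration.ProjectivePlane
open Cfsg.Agent.LieExceptional.BNPairCore Cfsg.Agent.Tits.Core Cfsg.Agent.Tits.OfBN

universe u

section BN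

variable {G : Type u} [Group G] {P : BNPair G}

theorem mem_par_iff {s : G} (hs : s ∈ P.S) {g : G} : g ∈ P.parabolic {s} ↔ g ∈ P.B ∨ g ∈ C P s := by
  rw [mem_parabolic_iff (by simpa using hs)]
  constructor
  · rintro ⟨n, hn, hg⟩
    rw [← Subgroup.zpowers_eq_closure] at hn
    obtain ⟨k, rfl⟩ := Subgroup.mem_zpowers_iff.1 hn
    have h0 : ∀ m : ℤ, (s * s) ^ m ∈ P.B := fun m => P.B.zpow_mem (P.sq_mem s hs) m
    rcases Int.even_or_odd' k with ⟨m, rfl | rfl⟩
    · left
      refine mem_B_of_mem_C ?_ hg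
      rw [zpow_mul, zpow_ofNat, pow_two]
      exact h0 m
    · right
      have h1 : s ^ (2 * m + 1) = (s * s) ^ m * s := by
        rw [zpow_add, zpow_one, zpow_mul, zpow_ofNat, pow_two]
      rw [h1, C_mul_left (h0 m)] at hg
      exact hg
  · rintro (h | h)
    · exact ⟨1, one_mem _, mem_C_one.2 h⟩
    · exact ⟨s, Subgroup.subset_closure rfl, h⟩

theorem B_le_par (s : G) : P.B ≤ P.parabolic {s} := le_sup_left

theorem self_mem_par (s : G) : s ∈ P.parabolic {s} :=
  (le_sup_right : Subgroup.closure {s} ≤ P.parabolic {s}) (Subgroup.subset_closure rfl)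

/-- what we need about the Weyl group -/
structure A2 (P : BNPair G) (s t : G) : Prop where
  hs : s ∈ P.S
  ht : t ∈ P.S
  ne : s ≠ t
  S_eq : P.S = {s, t}
  braid : (s * t * s)⁻¹ * (t * s * t) ∈ P.B
  nc : (s * t)⁻¹ * (t * s) ∉ P.B

theorem A2.symm {s t : G} (h : A2 P s t) : A2 P t s where
  hs := h.ht
  ht := h.hs
  ne := h.ne.symm
  S_eq := by rw [h.S_eq, Set.pair_comm]
  braid := rel_symm h.braid
  nc := fun h1 => h.nc (rel_symm h1)

theorem A2.not_mem {s t : G} (h : A2 P s t) : s ∉ P.parabolic {t} := by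
  intro h1
  have h2 := (mem_parabolic_gen_iff (P := P) (J := {t}) (by simpa using h.ht) h.hs).1 h1
  exact h.ne h2

theorem A2.mul_mem_C {s t : G} (h : A2 P s t) {x y : G} (hx : x ∈ C P s) (hy : y ∈ C P t) : x * y ∈ C P (s * t) := by
  obtain ⟨b₁, hb₁, b₂, hb₂, rfl⟩ := mem_C.1 hx
  obtain ⟨b₃, hb₃, b₄, hb₄, rfl⟩ := mem_C.1 hy
  have h1 : b₁ * s * b₂ * (b₃ * t * b₄) = b₁ * (s * (b₂ * b₃) * t) * b₄ := by group
  rw [h1]
  rcases axiom_left (P := P) h.hs (mem_N h.ht) (mul_mem hb₂ hb₃) with h2 | h2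
  · exact mul_mem_C_right hb₄ (mul_mem_C_left hb₁ h2)
  · exfalso
    apply h.not_mem
    have h3 : s * (b₂ * b₃) * t ∈ P.parabolic {t} := (mem_par_iff h.ht).2 (Or.inr h2)
    have h4 := mul_mem h3 (inv_mem (mul_mem (B_le_par t (mul_mem hb₂ hb₃)) (self_mem_par (P := P) t)))
    have h5 : s * (b₂ * b₃) * t * (b₂ * b₃ * t)⁻¹ = s := by group
    rwa [h5] at h4

/-- every element of `N` is one of six -/
theorem A2.six {s t : G} (h : A2 P s t) {n : G} (hn : n ∈ P.N) :
    C P n = C P 1 ∨ C P n = C P s ∨ C P n = C P t ∨ C P n = C P (s * t) ∨ C P n = C P (t * s) ∨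
      C P n = C P (s * t * s) := by
  obtain ⟨l, hl, hrel⟩ := exists_word (P := P) hn
  rw [← C_eq_of_rel hrel]
  clear hrel hn
  -- left multiplication by the generators
  have key : ∀ a n m : G, a ∈ P.S → n ∈ P.N → m ∈ P.N → C P n = C P m → C P (a * n) = C P (a * m) := by
    intro a n m _ hn hm hnm
    exact C_eq_of_rel (rel_mul_left a (rel_of_C_eq hn hm hnm))
  have hsN := mem_N h.hs
  have htN := mem_N h.ht
  induction l with
  | nil => left; rfl
  | cons a l ih =>
    have ih' := ih fun x hx => hl x (by simp [hx])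
    have ha : a ∈ P.S := hl a (by simp)
    have hlN : l.prod ∈ P.N := prod_mem_N fun x hx => hl x (by simp [hx])
    rw [List.prod_cons]
    have haS := ha
    rw [h.S_eq] at ha
    rcases ha with rfl | ha
    · rcases ih' with h1 | h1 | h1 | h1 | h1 | h1
      · right; left
        rw [key a _ _ haS hlN (one_mem _) h1, mul_one]
      · left
        rw [key a _ _ haS hlN hsN h1]
        exact C_eq_of_rel (by simpa using inv_sq_mem haS)
      · right; right; right; left
        exact key a _ _ haS hlN htN h1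
      · right; right; left
        rw [key a _ _ haS hlN (mul_mem hsN htN) h1]
        exact C_eq_of_rel (rel_sq_mul haS htN)
      · right; right; right; right; right
        rw [key a _ _ haS hlN (mul_mem htN hsN) h1, mul_assoc]
      · right; right; right; right; left
        rw [key a _ _ haS hlN (mul_mem (mul_mem hsN htN) hsN) h1]
        have h2 := rel_sq_mul (P := P) haS (mul_mem htN hsN)
        rw [← mul_assoc a t a] at h2
        exact C_eq_of_rel h2
    · rw [Set.mem_singleton_iff] at ha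
      subst ha
      rcases ih' with h1 | h1 | h1 | h1 | h1 | h1
      · right; right; left
        rw [key a _ _ haS hlN (one_mem _) h1, mul_one]
      · right; right; right; right; left
        exact key a _ _ haS hlN hsN h1
      · left
        rw [key a _ _ haS hlN htN h1]
        exact C_eq_of_rel (by simpa using inv_sq_mem haS)
      · right; right; right; right; right
        rw [key a _ _ haS hlN (mul_mem hsN htN) h1, ← mul_assoc]
        exact C_eq_of_rel (rel_symm h.braid)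
      · right; left
        rw [key a _ _ haS hlN (mul_mem htN hsN) h1]
        exact C_eq_of_rel (rel_sq_mul haS hsN)
      · right; right; right; left
        rw [key a _ _ haS hlN (mul_mem (mul_mem hsN htN) hsN) h1]
        have h2 := rel_mul_left a h.braid
        rw [C_eq_of_rel h2]
        have h3 := rel_sq_mul (P := P) haS (mul_mem hsN htN)
        rw [← mul_assoc a s a] at h3
        exact C_eq_of_rel h3

theorem A2.xyx {s t : G} (h : A2 P s t) (g : G) :
    ∃ x ∈ P.parabolic {s}, ∃ y ∈ P.parabolic {t}, ∃ x' ∈ P.parabolic {s}, g = x * y * x' := by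
  obtain ⟨n, hn, hg⟩ := bruhat (P := P) g
  have hs := self_mem_par (P := P) s
  have ht := self_mem_par (P := P) t
  have key : ∀ x ∈ P.parabolic {s}, ∀ y ∈ P.parabolic {t}, ∀ x' ∈ P.parabolic {s}, g ∈ C P (x * y * x') →
      ∃ x ∈ P.parabolic {s}, ∃ y ∈ P.parabolic {t}, ∃ x' ∈ P.parabolic {s}, g = x * y * x' := by
    intro x hx y hy x' hx' hg
    obtain ⟨b₁, hb₁, b₂, hb₂, rfl⟩ := mem_C.1 hg
    exact ⟨b₁ * x, mul_mem (B_le_par s hb₁) hx, y, hy, x' * b₂, mul_mem hx' (B_le_par s hb₂), by group⟩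
  rcases h.six hn with h1 | h1 | h1 | h1 | h1 | h1
  · refine key 1 (one_mem _) 1 (one_mem _) 1 (one_mem _) ?_
    rw [one_mul, one_mul, ← h1]; exact hg
  · refine key s hs 1 (one_mem _) 1 (one_mem _) ?_
    rw [mul_one, mul_one, ← h1]; exact hg
  · refine key 1 (one_mem _) t ht 1 (one_mem _) ?_
    rw [one_mul, mul_one, ← h1]; exact hg
  · refine key s hs t ht 1 (one_mem _) ?_
    rw [mul_one, ← h1]; exact hg
  · refine key 1 (one_mem _) t ht s hs ?_
    rw [one_mul, ← h1]; exact hg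
  · refine key s hs t ht s hs ?_
    rw [← h1]; exact hg

theorem A2.inf_eq {s t : G} (h : A2 P s t) : P.parabolic {s} ⊓ P.parabolic {t} = P.B := by
  apply le_antisymm
  · rintro g ⟨h1, h2⟩
    rcases (mem_par_iff h.hs).1 h1 with h3 | h3
    · exact h3
    · exact absurd (mem_of_mem_C (B_le_par t) h3 h2) h.not_mem
  · exact le_inf (B_le_par s) (B_le_par t)

theorem A2.memCs {s t : G} (h : A2 P s t) {g : G} (h1 : g ∈ P.parabolic {s}) (h2 : g ∉ P.parabolic {t}) :
    g ∈ C P s := by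
  rcases (mem_par_iff h.hs).1 h1 with h3 | h3
  · exact absurd (B_le_par t h3) h2
  · exact h3

theorem A2.thick {s t : G} (h : A2 P s t) :
    ∃ a ∈ P.parabolic {s}, ∃ b ∈ P.parabolic {s}, a ∉ P.parabolic {t} ∧ b ∉ P.parabolic {t} ∧ a⁻¹ * b ∉ P.parabolic {t} := by
  obtain ⟨β, hβ, h1⟩ := exists_mem_C_self (P := P) h.hs
  have hs := self_mem_par (P := P) s
  refine ⟨s, hs, s * β * s, mul_mem (mul_mem hs (B_le_par s hβ)) hs, h.not_mem, fun h2 => ?_, fun h2 => ?_⟩
  · exact h.not_mem (mem_of_mem_C (B_le_par t) h1 h2)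
  · have h3 : s⁻¹ * (s * β * s) = β * s := by group
    rw [h3] at h2
    exact h.not_mem ((Subgroup.mul_mem_cancel_left _ (B_le_par t hβ)).1 h2)

theorem A2.two {s t : G} (h : A2 P s t) {y y' : G} (hy : y ∈ P.parabolic {t}) (hy' : y' ∈ P.parabolic {t})
    (h1 : y ∉ P.parabolic {s}) (h2 : y' ∉ P.parabolic {s}) :
    ∃ b ∈ P.parabolic {s}, ∃ b' ∈ P.parabolic {s}, y' = b * y * b' := by
  obtain ⟨b₁, hb₁, b₂, hb₂, rfl⟩ := mem_C.1 (h.symm.memCs hy h1)
  obtain ⟨b₃, hb₃, b₄, hb₄, rfl⟩ := mem_C.1 (h.symm.memCs hy' h2)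
  exact ⟨b₃ * b₁⁻¹, B_le_par s (mul_mem hb₃ (inv_mem hb₁)), b₂⁻¹ * b₄, B_le_par s (mul_mem (inv_mem hb₂) hb₄), by group⟩

theorem A2.inter {s t : G} (h : A2 P s t) {x y x' y' : G} (hx : x ∈ P.parabolic {s}) (hy : y ∈ P.parabolic {t})
    (hx' : x' ∈ P.parabolic {s}) (hy' : y' ∈ P.parabolic {t}) (he : x * y = y' * x') :
    y ∈ P.parabolic {s} ∨ x ∈ P.parabolic {t} := by
  by_contra hcon
  push Not at hcon
  obtain ⟨hy2, hx2⟩ := hcon
  have h1 := h.mul_mem_C (h.memCs hx hx2) (h.symm.memCs hy hy2)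
  rw [he] at h1
  have hsN := mem_N h.hs
  have htN := mem_N h.ht
  by_cases h2 : y' ∈ P.parabolic {s}
  · -- `y' x' ∈ X`
    have h3 := mem_of_mem_C (B_le_par s) h1 (mul_mem h2 hx')
    exact h.symm.not_mem ((Subgroup.mul_mem_cancel_left _ (self_mem_par s)).1 h3)
  · by_cases h3 : x' ∈ P.parabolic {t}
    · have h4 := mem_of_mem_C (B_le_par t) h1 (mul_mem hy' h3)
      exact h.not_mem ((Subgroup.mul_mem_cancel_right _ (self_mem_par t)).1 h4)
    · have h4 := h.symm.mul_mem_C (h.symm.memCs hy' h2) (h.memCs hx' h3)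
      exact h.nc (rel_of_C_eq (mul_mem hsN htN) (mul_mem htN hsN) (C_eq_of_mem_mem h1 h4))

theorem A2.pHyp {s t : G} (h : A2 P s t) : PHyp (P.parabolic {s}) (P.parabolic {t}) where
  xyx := h.xyx
  yxy := h.symm.xyx
  inter := fun _ hx _ hy _ hx' _ hy' he => h.inter hx hy hx' hy' he
  thickX := h.thick
  thickY := h.symm.thick
  two := fun _ hy _ hy' h1 h2 => h.two hy hy' h1 h2

/-- the group is faithful on the points -/
theorem A2.faithful [Finite G] {s t : G} (h : A2 P s t) (hcore : P.B.normalCore = ⊥) :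
    FaithfulSMul G (Pt (P.parabolic {s}) (P.parabolic {t})) := by
  let _ := h.pHyp.plane
  constructor
  intro g g' hgg
  have h1 : ∀ p : Pt (P.parabolic {s}) (P.parabolic {t}), (g'⁻¹ * g) • p = p := fun p => by
    rw [mul_smul, hgg, inv_smul_smul]
  have h2 : ∀ l : Ln (P.parabolic {s}) (P.parabolic {t}), (g'⁻¹ * g) • l = l := triv_lines h1
  have h3 : g'⁻¹ * g ∈ P.B.normalCore := by
    intro b
    have h4 := h1 (pt _ _ b⁻¹)
    have h5 := h2 (ln _ _ b⁻¹)
    rw [smul_pt, eq_comm, pt_eq, inv_inv] at h4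
    rw [smul_ln, eq_comm, ln_eq, inv_inv] at h5
    rw [← h.inf_eq, mul_assoc]
    exact ⟨h4, h5⟩
  rw [hcore, Subgroup.mem_bot, inv_mul_eq_one] at h3
  exact h3.symm

/-- a (B,N)-pair of rank two with Weyl group of order 6 -/
theorem exists_A2 [Finite G] (P : BNPair G) (h2 : P.rank = 2) (h6 : ((P.B ⊓ P.N).subgroupOf P.N).index = 6) :
    ∃ s t : G, A2 P s t := by
  obtain ⟨s, t, hst, hS⟩ : ∃ s t : G, s ≠ t ∧ P.S = {s, t} := by
    have h3 : P.S.ncard = 2 := h2
    obtain ⟨s, t, h4, h5⟩ := Set.ncard_eq_two.1 h3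
    exact ⟨s, t, h4, h5⟩
  have hs : s ∈ P.S := by rw [hS]; simp
  have ht : t ∈ P.S := by rw [hS]; simp
  obtain ⟨M, hNn, cs, hcs⟩ := Cfsg.Agent.Tits.Labels.exists_bnType P
  set a : P.S := ⟨s, hs⟩ with ha
  set b : P.S := ⟨t, ht⟩ with hb
  have hfinI : Finite P.S := Set.Finite.to_subtype (by rw [hS]; exact Set.toFinite _)
  have hfinW : Finite (P.N ⧸ (P.B ⊓ P.N).subgroupOf P.N) := inferInstance
  have hI : ∀ i : P.S, i = a ∨ i = b := by
    rintro ⟨i, hi⟩
    have hi' := hi
    rw [hS] at hi'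
    rcases hi' with h | h
    · exact Or.inl (Subtype.ext h)
    · exact Or.inr (Subtype.ext h)
  have hM : M a b = 3 := by
    have h1 := Cfsg.Agent.Tits.Labels.card_WJ_pair cs a b
    have h2 : ({a, b} : Set P.S) = Set.univ := by
      ext i
      simp only [Set.mem_insert_iff, Set.mem_singleton_iff, Set.mem_univ, iff_true]
      exact hI i
    rw [h2, Cfsg.Agent.Tits.Exchange.WJ_univ, Subgroup.card_top] at h1
    have h3 : Nat.card (P.N ⧸ (P.B ⊓ P.N).subgroupOf P.N) = 6 := h6
    rw [h3] at h1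
    omega
  have h3 : (cs.simple a * cs.simple b) ^ 3 = 1 := by
    have := cs.simple_mul_simple_pow a b
    rwa [hM] at this
  have haa : cs.simple a * cs.simple a = 1 := cs.simple_mul_simple_self a
  have hbb : cs.simple b * cs.simple b = 1 := cs.simple_mul_simple_self b
  have ha1 : cs.simple a = QuotientGroup.mk (⟨s, P.subset hs⟩ : P.N) := hcs a
  have hb1 : cs.simple b = QuotientGroup.mk (⟨t, P.subset ht⟩ : P.N) := hcs b
  refine ⟨s, t, hs, ht, hst, hS, ?_, ?_⟩
  · have h4 : cs.simple a * cs.simple b * cs.simple a = cs.simple b * cs.simple a * cs.simple b := by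
      have h5 : cs.simple a * cs.simple b * cs.simple a * (cs.simple b * cs.simple a * cs.simple b) = 1 := by
        rw [← h3]; simp only [pow_succ, pow_zero, one_mul, mul_assoc]
      have h6 : (cs.simple b * cs.simple a * cs.simple b)⁻¹ = cs.simple b * cs.simple a * cs.simple b := by
        simp only [mul_inv_rev, cs.inv_simple, mul_assoc]
      rw [← h6]
      exact eq_inv_of_mul_eq_one_left h5
    rw [ha1, hb1, ← QuotientGroup.mk_mul, ← QuotientGroup.mk_mul, ← QuotientGroup.mk_mul, ← QuotientGroup.mk_mul] at h4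
    exact (mk_eq_iff P (⟨s, P.subset hs⟩ * ⟨t, P.subset ht⟩ * ⟨s, P.subset hs⟩)
      (⟨t, P.subset ht⟩ * ⟨s, P.subset hs⟩ * ⟨t, P.subset ht⟩)).1 h4
  · intro h4
    have h5 : cs.simple a * cs.simple b = cs.simple b * cs.simple a := by
      rw [ha1, hb1]
      exact (mk_eq_iff P (⟨s, P.subset hs⟩ * ⟨t, P.subset ht⟩) (⟨t, P.subset ht⟩ * ⟨s, P.subset hs⟩)).2 h4
    have h6 : (cs.simple a * cs.simple b) ^ 2 = 1 := by
      rw [pow_two]
      nth_rw 2 [h5]
      rw [mul_assoc, ← mul_assoc (cs.simple b), hbb, one_mul, haa]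
    have h7 : cs.simple a * cs.simple b = 1 := by
      rw [pow_succ, h6, one_mul] at h3
      exact h3
    have h8 : cs.simple a = cs.simple b := by
      rw [← cs.inv_simple b]
      exact eq_inv_of_mul_eq_one_left h7
    rw [ha1, hb1, mk_eq_iff] at h8
    exact hst (P.inj s hs t ht h8)

end BN

/-- **[N3] of S3414** -/
theorem n3 {G : Type u} [Group G] [Finite G] (P : BNPair G) (h2 : P.rank = 2) (hcore : P.B.normalCore = ⊥)
    (h6 : ((P.B ⊓ P.N).subgroupOf P.N).index = 6) :
    ∃ K : Subgroup G, K.Normal ∧ ∃ (F : Type) (_ : Field F) (_ : Fintype F),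
      Nonempty (K ≃* Matrix.ProjectiveSpecialLinearGroup (Fin 3) F) := by
  obtain ⟨s, t, h⟩ := exists_A2 P h2 h6
  let _ := h.pHyp.plane
  have := h.faithful hcore
  exact psl_of_T2 (L := Ln (P.parabolic {s}) (P.parabolic {t})) h.pHyp.t2

end Cfsg.Agent.H156.Tits
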