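import Cfsg.Agent.H985.Final
import Cfsg.Agent.H985.Coord
import Cfsg.Agent.H985.Sub
import Cfsg.Agent.LieClassical.SLGen

/-!
# A doubly transitive group of collineations of a finite projective plane contains `PSL_3(F)` as a normal subgroup
-/

set_option autoImplicit false

namespace Cfsg.Agent.H156.Tits

open Cfsg Cfsg.Agent.H985 Cfsg.Agent.H985.Pl Configuration Configuration.ProjectivePlane
open scoped LinearAlgebra.Projectivization

universe u

section Elations

variable {P L : Type*} [Membership P L] [ProjectivePlane P L] [Finite P] [Finite L]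

/-- a doubly transitive group of collineations contains all elations -/
theorem Pg_le {H : Subgroup (Coll P L)} (hT : T2 H P) {z : P} {w : L} (hz : z ∈ w) : Pg (Coll P L) z w ≤ H := by
  have hTC : T2 (Coll P L) P := by
    intro p₁ p₂ q₁ q₂ h1 h2
    obtain ⟨g, h3, h4⟩ := hT p₁ p₂ q₁ q₂ h1 h2
    exact ⟨g.1, h3, h4⟩
  have hc1 := card_Pg_all hT hz
  have hc2 := card_Pg_all hTC hz
  have h1 : (Pg H z w).map H.subtype ≤ Pg (Coll P L) z w := by
    rintro _ ⟨g, hg, rfl⟩
    exact ⟨fun p hp => hg.1 p hp, fun l hl => hg.2 l hl⟩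
  have h2 : (Pg H z w).map H.subtype = Pg (Coll P L) z w := by
    apply Subgroup.eq_of_le_of_card_ge h1
    rw [Subgroup.card_map_of_injective H.subtype_injective, hc1, hc2]
  rw [← h2]
  rintro _ ⟨g, _, rfl⟩
  exact g.2

/-- the group generated by the elations -/
def EG (P L : Type*) [Membership P L] [ProjectivePlane P L] [Finite P] [Finite L] : Subgroup (Coll P L) :=
  Subgroup.closure {g | ∃ (z : P) (w : L), z ∈ w ∧ g ∈ Pg (Coll P L) z w}

theorem EG_le {H : Subgroup (Coll P L)} (hT : T2 H P) : EG P L ≤ H := by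
  rw [EG, Subgroup.closure_le]
  rintro g ⟨z, w, hz, hg⟩
  exact Pg_le hT hz hg

instance EG_normal : (EG P L).Normal := by
  constructor
  intro n hn g
  refine Subgroup.closure_induction (p := fun n _ => g * n * g⁻¹ ∈ EG P L) ?_ ?_ ?_ ?_ hn
  · rintro x ⟨z, w, hz, hx⟩
    exact Subgroup.subset_closure ⟨g • z, g • w, mem_smul g hz, hx.1.conj g, hx.2.conj g⟩
  · simp only [mul_one, mul_inv_cancel]
    exact one_mem _
  · intro x y _ _ hx hy
    have h1 : g * (x * y) * g⁻¹ = (g * x * g⁻¹) * (g * y * g⁻¹) := by group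
    rw [h1]
    exact mul_mem hx hy
  · intro x _ hx
    have h1 : g * x⁻¹ * g⁻¹ = (g * x * g⁻¹)⁻¹ := by group
    rw [h1]
    exact inv_mem hx

theorem EG_ne {H : Subgroup (Coll P L)} (hT : T2 H P) : EG P L ≠ ⊥ := by
  have hTC : T2 (Coll P L) P := by
    intro p₁ p₂ q₁ q₂ h1 h2
    obtain ⟨g, h3, h4⟩ := hT p₁ p₂ q₁ q₂ h1 h2
    exact ⟨g.1, h3, h4⟩
  obtain ⟨z, w, hz, g, hg, h1, h2⟩ := ex_elation (L := L) hTC
  intro h
  have h3 : g ∈ EG P L := Subgroup.subset_closure ⟨z, w, hz, h1, h2⟩
  rw [h, Subgroup.mem_bot] at h3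
  exact hg h3

/-- a permutation of the points mapping lines to lines is a collineation -/
theorem exists_coll (σ : Equiv.Perm P) (h : ∀ l : L, ∃ l' : L, ∀ p : P, p ∈ l ↔ σ p ∈ l') :
    ∃ c : Coll P L, ∀ p : P, c • p = σ p := by
  classical
  choose τ hτ using h
  have hinj : Function.Injective τ := by
    intro l m hlm
    obtain ⟨p, hp, -, -⟩ := ex_third (P := P) l (exOffP (P := P) l).choose (exOffP (P := P) l).choose
    obtain ⟨q, hq, hqp, -⟩ := ex_third l p p
    refine uL hqp hq hp ?_ ?_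
    · rw [hτ m, ← hlm, ← hτ l]; exact hq
    · rw [hτ m, ← hlm, ← hτ l]; exact hp
  exact ⟨⟨(σ, Equiv.ofBijective τ (Finite.injective_iff_bijective.1 hinj)), fun p l => (hτ l p).symm⟩, fun p => rfl⟩

/-- if all elements of a group of permutations of the points map lines to lines, it is a group of collineations -/
theorem exists_hom {Q : Type*} [Group Q] (f : Q →* Equiv.Perm P)
    (h : ∀ (g : Q) (l : L), ∃ l' : L, ∀ p : P, p ∈ l ↔ f g p ∈ l') :
    ∃ ρ : Q →* Coll P L, ∀ (g : Q) (p : P), ρ g • p = f g p := by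
  choose c hc using fun g => exists_coll (f g) (h g)
  refine ⟨{ toFun := c, map_one' := ?_, map_mul' := ?_ }, hc⟩
  · apply FaithfulSMul.eq_of_smul_eq_smul (α := P)
    intro p
    rw [hc, map_one, one_smul]
    rfl
  · intro x y
    apply FaithfulSMul.eq_of_smul_eq_smul (α := P)
    intro p
    rw [hc, map_mul, mul_smul, hc y, hc x]
    rfl

end Elations

/-- **a faithful doubly transitive group of collineations of a finite projective plane has a normal subgroup isomorphic to `PSL_3(F)`** -/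
theorem psl_of_T2 {G P L : Type*} [Group G] [Membership P L] [MulAction G P] [MulAction G L] [Act G P L]
    [ProjectivePlane P L] [Finite P] [Finite L] [FaithfulSMul G P] (hT : T2 G P) :
    ∃ K : Subgroup G, K.Normal ∧ ∃ (F : Type) (_ : Field F) (_ : Fintype F),
      Nonempty (K ≃* Matrix.ProjectiveSpecialLinearGroup (Fin 3) F) := by
  classical
  have i0 : FaithfulSMul (Coll P L) P := inferInstance
  -- the image of `G`
  have hinj : Function.Injective (toColl G P L) := by
    intro g h hgh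
    apply FaithfulSMul.eq_of_smul_eq_smul (α := P)
    intro p
    rw [← toColl_smul (L := L) g p, hgh, toColl_smul]
  have hTG : T2 (toColl G P L).range P := by
    intro p₁ p₂ q₁ q₂ h1 h2
    obtain ⟨g, h3, h4⟩ := hT p₁ p₂ q₁ q₂ h1 h2
    exact ⟨⟨toColl G P L g, g, rfl⟩, h3, h4⟩
  have hTC : T2 (Coll P L) P := by
    intro p₁ p₂ q₁ q₂ h1 h2
    obtain ⟨g, h3, h4⟩ := hT p₁ p₂ q₁ q₂ h1 h2
    exact ⟨toColl G P L g, h3, h4⟩
  -- coordinates
  obtain ⟨F, i1, i2, e, he⟩ := desargues_coords (G := Coll P L) (P := P) (L := L) hTC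
  obtain ⟨φ, h1, h2⟩ := coord_final e he
  have hsimp : IsSimpleGroup (Matrix.ProjectiveSpecialLinearGroup (Fin 3) F) :=
    LieClassical.SLGen.psl_isSimpleGroup (by simp)
  -- the action of `PSL_3(F)`
  let f0 : Matrix.ProjectiveSpecialLinearGroup (Fin 3) F →* Equiv.Perm P :=
    (φ.symm.permCongrHom.toMonoidHom).comp Projectivization.PSLAction.toPermHom
  have hf0 : ∀ (g : Matrix.ProjectiveSpecialLinearGroup (Fin 3) F) (p : P), f0 g p = φ.symm (g • φ p) := fun g p => rfl
  have hline : ∀ (g : Matrix.ProjectiveSpecialLinearGroup (Fin 3) F) (l : L), ∃ l' : L, ∀ p : P, p ∈ l ↔ f0 g p ∈ l' := by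
    intro g l
    obtain ⟨g, rfl⟩ := QuotientGroup.mk_surjective g
    obtain ⟨W, hW, hl⟩ := h1 l
    obtain ⟨l', hl'⟩ := h2 (W.map (Matrix.SpecialLinearGroup.toLin' g).toLinearMap) (by
      rw [← hW]
      exact LinearEquiv.finrank_map_eq (Matrix.SpecialLinearGroup.toLin' g) W)
    refine ⟨l', fun p => ?_⟩
    rw [hl, hl', hf0, Equiv.apply_symm_apply]
    change _ ↔ (g • φ p).submodule ≤ _
    generalize φ p = x
    induction x using Projectivization.ind with
    | h v hv =>
      rw [Projectivization.smul_mk, mk_le_iff, mk_le_iff]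
      constructor
      · intro h
        exact ⟨v, h, rfl⟩
      · rintro ⟨w, hw, hw2⟩
        have h3 : (Matrix.SpecialLinearGroup.toLin' g) w = (Matrix.SpecialLinearGroup.toLin' g) v := hw2
        rw [← (Matrix.SpecialLinearGroup.toLin' g).injective h3]
        exact hw
  obtain ⟨ρ, hρ⟩ := exists_hom (P := P) (L := L) f0 hline
  have hρinj : Function.Injective ρ := by
    intro g h hgh
    apply FaithfulSMul.eq_of_smul_eq_smul (α := ℙ F (Fin 3 → F))
    intro x
    have h3 := congrArg (fun c : Coll P L => c • (φ.symm x)) hgh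
    simp only [hρ, hf0, Equiv.apply_symm_apply] at h3
    exact φ.symm.injective h3
  have hTQ : T2 ρ.range P := by
    intro p₁ p₂ q₁ q₂ h3 h4
    have h5 : ∀ {a b c d : ℙ F (Fin 3 → F)}, a ≠ b → c ≠ d →
        ∃ g : Matrix.SpecialLinearGroup (Fin 3) F, g • a = c ∧ g • b = d :=
      MulAction.is_two_pretransitive_iff.1 inferInstance
    obtain ⟨g, hg1, hg2⟩ := h5 (fun h => h3 (φ.injective h)) (fun h => h4 (φ.injective h))
    refine ⟨⟨ρ g, g, rfl⟩, ?_, ?_⟩
    · change ρ g • p₁ = q₁
      rw [hρ, hf0]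
      exact (congrArg φ.symm hg1).trans (φ.symm_apply_apply _)
    · change ρ g • p₂ = q₂
      rw [hρ, hf0]
      exact (congrArg φ.symm hg2).trans (φ.symm_apply_apply _)
  -- the elations generate the image of `PSL_3(F)`
  have hE1 : EG P L ≤ ρ.range := EG_le hTQ
  have hE2 : EG P L = ρ.range := by
    have h3 : ((EG P L).comap ρ).Normal := inferInstance
    rcases h3.eq_bot_or_eq_top with h4 | h4
    · exfalso
      apply EG_ne (L := L) hTQ
      rw [eq_bot_iff]
      intro x hx
      obtain ⟨g, rfl⟩ := hE1 hx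
      have h5 : g ∈ (EG P L).comap ρ := hx
      rw [h4, Subgroup.mem_bot] at h5
      rw [h5, map_one]
      exact one_mem _
    · apply le_antisymm hE1
      rintro _ ⟨g, rfl⟩
      have h5 : g ∈ (EG P L).comap ρ := by rw [h4]; trivial
      exact h5
  have hE3 : EG P L ≤ (toColl G P L).range := EG_le hTG
  refine ⟨(EG P L).comap (toColl G P L), inferInstance, F, i1, i2, ⟨?_⟩⟩
  have e1 : (EG P L).comap (toColl G P L) ≃* ((EG P L).comap (toColl G P L)).map (toColl G P L) :=
    ((EG P L).comap (toColl G P L)).equivMapOfInjective _ hinj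
  have h6 : ((EG P L).comap (toColl G P L)).map (toColl G P L) = ρ.range := by
    rw [Subgroup.map_comap_eq_self hE3, hE2]
  exact (e1.trans (MulEquiv.subgroupCongr h6)).trans (MonoidHom.ofInjective hρinj).symm

end Cfsg.Agent.H156.Tits
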