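import Cfsg.Agent.H156.Tits.SubPlane
import Cfsg.Agent.H270.Tits.PslRows
import Cfsg.Agent.H270.Tits.PslSemi

/-!
# S3414, case (B): `StPslSub` (helper156)

The doubly transitive subgroups of a group with socle `PSL_3(F)` in its natural action contain the socle; degree 127 is
`H270.Tits.row127`.
-/

set_option autoImplicit false

namespace Cfsg.Agent.H156.Tits

open Subgroup Cfsg.Agent.H873.Tits Cfsg.Agent.H384.TwoTrans Cfsg.Agent.H270.Tits Cfsg.Agent.H270.Tits.Elat
open scoped LinearAlgebra.Projectivization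

universe u v

/-- the projective action of the socle -/
theorem exists_PA {Ω : Type v} [Finite Ω] {L : Subgroup (Equiv.Perm Ω)} {T : Subgroup L} (A : AS L Ω T)
    {p d f : ℕ} (hp : p.Prime) (hd : 3 ≤ d) (hc : Nat.card Ω * (p ^ f - 1) = (p ^ f) ^ d - 1) (hf : 1 ≤ f)
    {F : Type} [Field F] [Fintype F] (hF : Fintype.card F = p ^ f)
    (e : T ≃* Matrix.ProjectiveSpecialLinearGroup (Fin d) F) : ∃ Φ : Ω ≃ ℙ F (Fin d → F), PA T Φ := by
  have := Fact.mk hp
  have hchar : CharP F p := by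
    obtain ⟨r, hr⟩ := CharP.exists F
    have hrp : r.Prime := (CharP.char_is_prime_or_zero F r).resolve_right (CharP.char_ne_zero_of_finite F r)
    obtain ⟨k, -, hk⟩ := FiniteField.card F r
    have h3 : r ∣ p ^ f := by
      rw [← hF, hk]
      exact dvd_pow_self r k.ne_zero
    have h4 := (Nat.prime_dvd_prime_iff_eq hrp hp).1 (hrp.dvd_of_dvd_pow h3)
    rwa [← h4]
  have hpn : ¬ p ∣ Nat.card Ω := by
    intro hpd
    have h1 : p ∣ (p ^ f) ^ d - 1 := hc ▸ hpd.mul_right _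
    have h3 : p ∣ (p ^ f) ^ d := by
      rw [← pow_mul]
      exact dvd_pow_self p (Nat.mul_ne_zero (by omega) (by omega))
    have h4 : 0 < (p ^ f) ^ d := Nat.pow_pos (Nat.pow_pos hp.pos)
    have h5 : p ∣ 1 := by
      have h6 := Nat.dvd_sub h3 h1
      have h7 : (p ^ f) ^ d - ((p ^ f) ^ d - 1) = 1 := by omega
      rwa [h7] at h6
    exact hp.one_lt.ne' (Nat.dvd_one.1 h5)
  obtain ⟨m, rfl⟩ : ∃ m, d = m + 1 + 1 := ⟨d - 2, by omega⟩
  obtain ⟨e', Φ, hΦ⟩ := H410.ASLie.psl_equiv A e hpn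
  have hfaith := A.faithful
  have hnorm := A.normal
  have hact : ∀ (y : T) (s : Matrix.SpecialLinearGroup (Fin (m + 1 + 1)) F),
      (s : Matrix.ProjectiveSpecialLinearGroup (Fin (m + 1 + 1)) F) = e' y → ∀ ω w, Pt Φ ω w →
        Pt Φ ((y : L) • ω) (s.1.mulVec w) := by
    intro y s hys ω w hw
    obtain ⟨hw0, hw⟩ := hw
    refine ⟨mulVec_ne hw0, ?_⟩
    have h1 : Φ (y • ω) = s • Φ ω := by
      rw [hΦ, ← hys]
      exact Matrix.ProjectiveSpecialLinearGroup.smul_proj_mk s (Φ ω)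
    have h3 : Φ ((y : L) • ω) = s • Φ ω := h1
    rw [h3, hw]
    rfl
  refine ⟨Φ, fun g hg => ?_, fun g t ht => hnorm.conj_mem t ht g, fun t ht => ?_, fun s => ?_⟩
  · apply FaithfulSMul.eq_of_smul_eq_smul (α := Ω)
    intro ω
    rw [hg ω, one_smul]
  · obtain ⟨s, hs⟩ := QuotientGroup.mk_surjective (e' ⟨t, ht⟩)
    exact ⟨s, hact ⟨t, ht⟩ s hs⟩
  · refine ⟨(e'.symm (s : Matrix.ProjectiveSpecialLinearGroup (Fin (m + 1 + 1)) F) : T), (e'.symm _).2, ?_⟩
    exact hact _ s (by rw [MulEquiv.apply_symm_apply])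

/-- **`StPslSub`** -/
theorem st_psl_sub : Cfsg.Agent.H115.Tits.StPslSub.{v} := by
  intro Ω _ L L' p d f hL hL' hle h hd
  obtain ⟨T, F, _, _, A, hF, ⟨e⟩⟩ := as_of hL h
  obtain ⟨hd3, hf, hp, hc, -⟩ := h
  rcases hd with rfl | ⟨rfl, rfl, rfl⟩
  · obtain ⟨Φ, P⟩ := exists_PA A hp hd3 hc hf hF e
    obtain ⟨X, hXn, hX1, hXle⟩ := exists_normal_of_PA P (H := L'.subgroupOf L) (fun a b a' b' hab hab' => by
      obtain ⟨g, hg, h1, h2⟩ := hL' a b a' b' hab hab'
      exact ⟨⟨g, hle hg⟩, hg, h1, h2⟩)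
    refine ⟨X.map L.subtype, fun h => hX1 ((map_eq_bot_iff_of_injective _ (subtype_injective L)).1 h), ?_, ?_⟩
    · rintro _ ⟨x, hx, rfl⟩
      exact hXle hx
    · rw [← comap_subtype, comap_map_eq_self_of_injective (subtype_injective L)]
      exact hXn
  · have hΩ : Nat.card Ω = 127 := by
      norm_num at hc
      omega
    have h1 := (row127 A hle hL' hΩ (by rw [hF]; norm_num) e).1
    have := A.normal
    have hs := A.simple
    refine ⟨T.map L.subtype, fun h => ?_, h1, normal_map⟩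
    have h2 := (map_eq_bot_iff_of_injective _ (subtype_injective L)).1 h
    have hnt : Nontrivial T := hs.toNontrivial
    rw [h2] at hnt
    exact not_subsingleton _ (inferInstance : Subsingleton (⊥ : Subgroup L))

end Cfsg.Agent.H156.Tits
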