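import Cfsg.Agent.H156.Tits.PlanePSL
import Cfsg.Agent.H270.Tits.Elat

/-!
# S3414, case (B): a group with a normal subgroup acting as `PSL_3(F)` on the projective plane acts by collineations,
and its doubly transitive subgroups contain a normal subgroup `≠ 1` (helper156)
-/

set_option autoImplicit false

namespace Cfsg.Agent.H156.Tits

open Cfsg.Agent.H985 Cfsg.Agent.H985.Pl Configuration Configuration.ProjectivePlane
open Cfsg.Agent.H270.Tits.Elat
open scoped LinearAlgebra.Projectivization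
open Module

universe u v w

section Plane

variable {F : Type w} [Field F] {n : ℕ} {G : Type u} {Ω : Type v} [Group G] [MulAction G Ω]
  {T : Subgroup G} {Φ : Ω ≃ ℙ F (Fin n → F)}

/-- the fixed points of an elation form a hyperplane -/
theorem isE_fix_iff {v : Fin n → F} {f : Dual F (Fin n → F)} (hv : v ≠ 0) (hf : f v = 0) {g : G} (h : IsE T Φ v f g)
    {ω : Ω} {w : Fin n → F} (hw : Pt Φ ω w) : g • ω = ω ↔ f w = 0 := by
  have h1 := h.2 ω w hw
  constructor
  · intro he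
    rw [he] at h1
    obtain ⟨k, hk, e⟩ := hw.unique h1
    by_contra hne
    have h2 : f w • v = (k - 1) • w := by rw [sub_smul, one_smul, ← e, add_sub_cancel_left]
    have h3 := congrArg f h2
    rw [map_smul, map_smul, hf, smul_zero, smul_eq_mul] at h3
    have h4 : k - 1 = 0 := (mul_eq_zero.1 h3.symm).resolve_right hne
    rw [h4, zero_smul] at h2
    exact (smul_ne_zero hne hv) h2
  · intro he
    rw [he, zero_smul, add_zero] at h1
    exact h1.inj hw

/-- every element of `G` maps hyperplanes to hyperplanes -/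
theorem exists_dual (P : PA T Φ) (h3 : 3 ≤ n) (x : G) {f : Dual F (Fin n → F)} (hf : f ≠ 0) :
    ∃ f' : Dual F (Fin n → F), f' ≠ 0 ∧ ∀ ω w w', Pt Φ ω w → Pt Φ (x • ω) w' → (f w = 0 ↔ f' w' = 0) := by
  -- a zero of `f`
  obtain ⟨v, hfv, hv'⟩ := exists_zero h3 f 0
  have hv : v ≠ 0 := by
    rintro rfl
    exact hv' (Submodule.zero_mem _)
  obtain ⟨a, ha⟩ := exists_pt Φ hv
  obtain ⟨g, hg⟩ := P.exists_isE (v := v) hfv
  -- `T` is transitive
  obtain ⟨t, htT, ht⟩ : ∃ t ∈ T, t • x • a = a := by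
    have h5 : MulAction.IsPretransitive (Matrix.SpecialLinearGroup (Fin n) F) (ℙ F (Fin n → F)) := by
      have : Nontrivial (Fin n) := Fin.nontrivial_iff_two_le.2 (by omega)
      infer_instance
    obtain ⟨s, hs⟩ := h5.exists_smul_eq (Φ (x • a)) (Φ a)
    obtain ⟨t, htT, h⟩ := P.real s
    refine ⟨t, htT, ?_⟩
    obtain ⟨w, hw⟩ := pt_exists Φ (x • a)
    obtain ⟨hw0, hw'⟩ := hw
    have h6 := h (x • a) w ⟨hw0, hw'⟩
    rw [hw'] at hs
    obtain ⟨h7, h8⟩ := h6
    apply Φ.injective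
    rw [h8, ← hs]
    rfl
  obtain ⟨s, hs⟩ := P.rep t htT
  have hya : (t * x) • a = a := by rw [mul_smul, ht]
  obtain ⟨f₁, hf₁, hE⟩ := P.El_conj h3 ha hya (g := g) ⟨f, hfv, hg⟩
  -- the functional
  refine ⟨f₁ ∘ₗ s.1.mulVecLin, ?_, ?_⟩
  · intro h0
    have hf₁0 : f₁ = 0 := by
      ext i
      have h1 := LinearMap.congr_fun h0 (s⁻¹.1.mulVec (Pi.single i 1))
      rw [LinearMap.comp_apply, Matrix.mulVecLin_apply, mulVec_inv, LinearMap.zero_apply] at h1
      simpa using h1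
    have h1 := PA.isE_zero_iff hE hf₁0 P
    have h2 : g = 1 := by
      have h4 : g = (t * x)⁻¹ * (t * x * g * (t * x)⁻¹) * (t * x) := by group
      rw [h4, h1]
      group
    obtain ⟨u, hu⟩ : ∃ u, f u ≠ 0 := by
      by_contra hcon
      push Not at hcon
      exact hf (LinearMap.ext hcon)
    have hu0 : u ≠ 0 := by
      rintro rfl
      exact hu (map_zero f)
    obtain ⟨ω, hω⟩ := exists_pt Φ hu0
    have h4 := (isE_fix_iff hv hfv hg hω).1 (by rw [h2, one_smul])
    exact hu h4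
  · intro ω w w' hw hw'
    rw [← isE_fix_iff hv hfv hg hw, LinearMap.comp_apply, Matrix.mulVecLin_apply]
    have h1 := hs _ _ hw'
    rw [← isE_fix_iff hv hf₁ hE h1]
    have h2 : (t * x * g * (t * x)⁻¹) • t • x • ω = t • x • g • ω := by
      rw [smul_smul, smul_smul, smul_smul, smul_smul]
      congr 1
      group
    rw [h2, smul_left_cancel_iff, smul_left_cancel_iff]

end Plane

/-- the lines of the projective plane over `F` -/
def LinT (F : Type w) [Field F] : Type w := ℙ F (Fin 3 → F)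

instance {F : Type w} [Field F] : Membership (ℙ F (Fin 3 → F)) (LinT F) :=
  inferInstanceAs (Membership (ℙ F (Fin 3 → F)) (ℙ F (Fin 3 → F)))

instance {F : Type w} [Field F] [Finite F] : Finite (LinT F) := inferInstanceAs (Finite (ℙ F (Fin 3 → F)))

noncomputable instance {F : Type w} [Field F] [DecidableEq F] : ProjectivePlane (ℙ F (Fin 3 → F)) (LinT F) :=
  inferInstanceAs (ProjectivePlane (ℙ F (Fin 3 → F)) (ℙ F (Fin 3 → F)))

theorem mem_LinT_mk {F : Type w} [Field F] {u w : Fin 3 → F} (hu : u ≠ 0) (hw : w ≠ 0) :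
    Projectivization.mk F w hw ∈ (show LinT F from Projectivization.mk F u hu) ↔ dotProductEquiv F (Fin 3) u w = 0 := by
  change Projectivization.orthogonal (Projectivization.mk F w hw) (Projectivization.mk F u hu) ↔ dotProduct u w = 0
  rw [Projectivization.orthogonal_mk hw hu, dotProduct_comm]

/-- a doubly transitive subgroup contains a normal subgroup `≠ 1` -/
theorem exists_normal_of_PA {F : Type w} [Field F] [Finite F] {G : Type u} {Ω : Type v} [Group G] [MulAction G Ω]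
    {T : Subgroup G} {Φ : Ω ≃ ℙ F (Fin 3 → F)} (P : PA T Φ) {H : Subgroup G}
    (h2 : ∀ a b a' b' : Ω, a ≠ b → a' ≠ b' → ∃ g ∈ H, g • a = a' ∧ g • b = b') :
    ∃ X : Subgroup G, X.Normal ∧ X ≠ ⊥ ∧ X ≤ H := by
  classical
  have hfinP : Finite (ℙ F (Fin 3 → F)) := inferInstance
  let f0 : G →* Equiv.Perm (ℙ F (Fin 3 → F)) := (Φ.permCongrHom.toMonoidHom).comp (MulAction.toPermHom G Ω)
  have hf0 : ∀ (g : G) (p : ℙ F (Fin 3 → F)), f0 g p = Φ (g • Φ.symm p) := fun g p => rfl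
  have hline : ∀ (g : G) (l : LinT F), ∃ l' : LinT F, ∀ p : ℙ F (Fin 3 → F), p ∈ l ↔ f0 g p ∈ l' := by
    intro g l
    obtain ⟨u, hu, rfl⟩ : ∃ (u : Fin 3 → F) (hu : u ≠ 0), l = (show LinT F from Projectivization.mk F u hu) :=
      ⟨_, Projectivization.rep_nonzero l, (Projectivization.mk_rep l).symm⟩
    have hfu : dotProductEquiv F (Fin 3) u ≠ 0 := (dotProductEquiv F (Fin 3)).map_ne_zero_iff.2 hu
    obtain ⟨f', hf', h⟩ := exists_dual P (by norm_num) g hfu
    obtain ⟨u', rfl⟩ := (dotProductEquiv F (Fin 3)).surjective f'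
    have hu' : u' ≠ 0 := (dotProductEquiv F (Fin 3)).map_ne_zero_iff.1 hf'
    refine ⟨(show LinT F from Projectivization.mk F u' hu'), fun p => ?_⟩
    rw [hf0]
    obtain ⟨ω, rfl⟩ := Φ.surjective p
    rw [Φ.symm_apply_apply]
    obtain ⟨w, hw0, hw⟩ := pt_exists Φ ω
    obtain ⟨w', hw0', hw'⟩ := pt_exists Φ (g • ω)
    have h1 := h ω w w' ⟨hw0, hw⟩ ⟨hw0', hw'⟩
    rw [hw, hw', mem_LinT_mk, mem_LinT_mk]
    exact h1
  obtain ⟨ρ, hρ⟩ := exists_hom (P := ℙ F (Fin 3 → F)) (L := LinT F) f0 hline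
  have hρinj : Function.Injective ρ := by
    rw [injective_iff_map_eq_one]
    intro g hg
    apply P.faithful
    intro ω
    have h1 := hρ g (Φ ω)
    rw [hg, one_smul, hf0, Φ.symm_apply_apply] at h1
    exact (Φ.injective h1).symm
  have hT : T2 (H.map ρ) (ℙ F (Fin 3 → F)) := by
    intro p₁ p₂ q₁ q₂ hp hq
    obtain ⟨g, hg, h3, h4⟩ := h2 (Φ.symm p₁) (Φ.symm p₂) (Φ.symm q₁) (Φ.symm q₂) (fun h => hp (Φ.symm.injective h))
      (fun h => hq (Φ.symm.injective h))
    refine ⟨⟨ρ g, g, hg, rfl⟩, ?_, ?_⟩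
    · change ρ g • p₁ = q₁
      rw [hρ, hf0, h3, Φ.apply_symm_apply]
    · change ρ g • p₂ = q₂
      rw [hρ, hf0, h4, Φ.apply_symm_apply]
  have hle := EG_le hT
  refine ⟨(EG (ℙ F (Fin 3 → F)) (LinT F)).comap ρ, inferInstance, ?_, ?_⟩
  · intro h
    apply EG_ne (L := LinT F) hT
    rw [eq_bot_iff]
    intro x hx
    obtain ⟨g, hg, rfl⟩ := hle hx
    have h5 : g ∈ (EG (ℙ F (Fin 3 → F)) (LinT F)).comap ρ := hx
    rw [h, Subgroup.mem_bot] at h5
    rw [h5, map_one]
    exact one_mem _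
  · intro g hg
    obtain ⟨g', hg', h⟩ := hle hg
    rwa [← hρinj h]

end Cfsg.Agent.H156.Tits
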